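import Cfsg.Prelude.Def_SporCoxeter

set_option autoImplicit false

/-!
# A presentation of the group `2^{1+6}:L₃(2)` (the centraliser of a `2B`-involution of the Held group)

Four involutions `p, q, r, s` with Coxeter graph `p —4— q`, `q —3— r`, `q —3— s`, `r —4— s` and two further relators
(found by a computer search); the group has order `21504`.
-/

namespace Cfsg.Agent.Helper28

namespace HCP

/-- the generators `p, q, r, s` -/
inductive Gen
  | p
  | q
  | r
  | s
  deriving DecidableEq

/-- the generator p as a word -/ abbrev p : FreeGroup Gen := FreeGroup.of Gen.p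
/-- the generator q as a word -/ abbrev q : FreeGroup Gen := FreeGroup.of Gen.q
/-- the generator r as a word -/ abbrev r : FreeGroup Gen := FreeGroup.of Gen.r
/-- the generator s as a word -/ abbrev s : FreeGroup Gen := FreeGroup.of Gen.s

/-- the Coxeter graph -/
def edges : List (Gen × ℕ × Gen) := [(.p, 4, .q), (.q, 3, .r), (.q, 3, .s), (.r, 4, .s)]

/-- the further relators -/
def extra : List (FreeGroup Gen) := [
  p * q * p * q * r * s * q * p * q * r * s * q * p * q * s * r * q * p * q * s * r,
  p * q * s * q * p * r * s * q * r * q * s * r * p * s * q * r * s * r ]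

end HCP

end Cfsg.Agent.Helper28
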