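import Mathlib

set_option autoImplicit false

/-!
# Two counting lemmas for centralisers

* `card_centralizer_mul_le`: an upper bound for the order of a centraliser from a list of conjugates that fix a
  point of a permutation representation (double counting of the set of `t` with `t z t⁻¹` fixing the point).
* `mulEquiv_centralizer_of_card`: a homomorphism into a centraliser whose image is at least as large as both
  its source and the centraliser is an isomorphism.
-/

namespace Cfsg.Agent.Helper28.HeCent

open Subgroup

theorem card_centralizer_mul_le {G X : Type*} [Group G] [Finite G] (ρ : G →* Equiv.Perm X) (z : G) (x0 : X)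
    (S : Subgroup G) (hS : ∀ g : G, ρ g x0 = x0 → g ∈ S)
    (F : Finset X) (hF : ∀ x, ρ z x = x → x ∈ F)
    (N : ℕ) (g : Fin N → G) (hfix : ∀ i, ρ (g i * z * (g i)⁻¹) x0 = x0)
    (hinj : Function.Injective fun i => g i * z * (g i)⁻¹) :
    N * Nat.card (Subgroup.centralizer ({z} : Set G)) ≤ F.card * Nat.card S := by
  classical
  have : Fintype G := Fintype.ofFinite G
  let T : Finset G := Finset.univ.filter (fun t => ρ (t * z * t⁻¹) x0 = x0)
  -- first count
  have h1 : N * Nat.card (Subgroup.centralizer ({z} : Set G)) ≤ T.card := by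
    have hc : ∀ h : Subgroup.centralizer ({z} : Set G), (h : G) * z * (h : G)⁻¹ = z := by
      intro h
      have := (Subgroup.mem_centralizer_iff.mp h.2) z rfl
      calc (h : G) * z * (h : G)⁻¹ = (z * h) * (h : G)⁻¹ := by rw [this]
        _ = z := by group
    let φ : Fin N × Subgroup.centralizer ({z} : Set G) → T := fun p =>
      ⟨g p.1 * p.2, by
        apply Finset.mem_filter.mpr
        refine ⟨Finset.mem_univ _, ?_⟩
        have e : g p.1 * (p.2 : G) * z * (g p.1 * (p.2 : G))⁻¹ = g p.1 * z * (g p.1)⁻¹ := by
          calc g p.1 * (p.2 : G) * z * (g p.1 * (p.2 : G))⁻¹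
              = g p.1 * ((p.2 : G) * z * (p.2 : G)⁻¹) * (g p.1)⁻¹ := by group
            _ = g p.1 * z * (g p.1)⁻¹ := by rw [hc]
        rw [e]
        exact hfix p.1⟩
    have hφ : Function.Injective φ := by
      rintro ⟨i, h⟩ ⟨j, h'⟩ hh
      have e : g i * (h : G) = g j * (h' : G) := congrArg Subtype.val hh
      have e2 : g i * z * (g i)⁻¹ = g j * z * (g j)⁻¹ := by
        have a1 : g i * z * (g i)⁻¹ = (g i * h) * z * (g i * h)⁻¹ := by
          calc g i * z * (g i)⁻¹ = g i * ((h : G) * z * (h : G)⁻¹) * (g i)⁻¹ := by rw [hc]
            _ = _ := by group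
        have a2 : g j * z * (g j)⁻¹ = (g j * h') * z * (g j * h')⁻¹ := by
          calc g j * z * (g j)⁻¹ = g j * ((h' : G) * z * (h' : G)⁻¹) * (g j)⁻¹ := by rw [hc]
            _ = _ := by group
        rw [a1, a2, e]
      have hij : i = j := hinj e2
      subst hij
      have : (h : G) = h' := mul_left_cancel e
      rw [Subtype.ext this]
    have := Nat.card_le_card_of_injective φ hφ
    rw [Nat.card_prod, Nat.card_fin, Nat.card_eq_finsetCard] at this
    exact this
  -- second count
  have h2 : T.card ≤ F.card * Nat.card S := by
    let f : G → X := fun t => ρ t⁻¹ x0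
    have himg : T.image f ⊆ F := by
      intro y hy
      obtain ⟨t, ht, rfl⟩ := Finset.mem_image.mp hy
      have ht' := (Finset.mem_filter.mp ht).2
      apply hF
      show ρ z (ρ t⁻¹ x0) = ρ t⁻¹ x0
      have e : ρ t⁻¹ (ρ (t * z * t⁻¹) x0) = ρ z (ρ t⁻¹ x0) := by
        rw [← Equiv.Perm.mul_apply, ← Equiv.Perm.mul_apply, ← map_mul, ← map_mul]
        congr 2
        group
      rw [← e, ht']
    have hfib : ∀ y ∈ T.image f, (T.filter fun t => f t = y).card ≤ Nat.card S := by
      intro y hy
      obtain ⟨t0, _, rfl⟩ := Finset.mem_image.mp hy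
      have hmem : ∀ t ∈ T.filter (fun t => f t = f t0), t * t0⁻¹ ∈ S := by
        intro t ht
        have e : f t = f t0 := (Finset.mem_filter.mp ht).2
        apply hS
        show ρ (t * t0⁻¹) x0 = x0
        rw [map_mul, Equiv.Perm.mul_apply]
        show ρ t (f t0) = x0
        rw [← e]
        show ρ t (ρ t⁻¹ x0) = x0
        rw [← Equiv.Perm.mul_apply, ← map_mul, mul_inv_cancel, map_one]
        rfl
      let ψ : (T.filter fun t => f t = f t0) → S := fun t => ⟨t.1 * t0⁻¹, hmem t.1 t.2⟩
      have hψ : Function.Injective ψ := by
        intro t t' htt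
        have : t.1 * t0⁻¹ = t'.1 * t0⁻¹ := congrArg Subtype.val htt
        exact Subtype.ext (mul_right_cancel this)
      have := Nat.card_le_card_of_injective ψ hψ
      rwa [Nat.card_eq_finsetCard] at this
    have h3 := Finset.card_le_mul_card_image T (Nat.card S) hfib
    calc T.card ≤ Nat.card S * (T.image f).card := h3
      _ ≤ Nat.card S * F.card := Nat.mul_le_mul_left _ (Finset.card_le_card himg)
      _ = F.card * Nat.card S := Nat.mul_comm _ _
  exact le_trans h1 h2

/-- a homomorphism into a centraliser with a large image is an isomorphism onto the centraliser -/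
theorem mulEquiv_centralizer_of_card {P G : Type*} [Group P] [Group G] [Finite P] (f : P →* G) (z : G)
    (hfz : ∀ x : P, f x * z = z * f x) (N : ℕ)
    (hP : Nat.card P ≤ N) (hC : Nat.card (Subgroup.centralizer ({z} : Set G)) ≤ N)
    (hfinC : Finite (Subgroup.centralizer ({z} : Set G)))
    (hR : N ≤ Nat.card f.range) :
    Nonempty (P ≃* Subgroup.centralizer ({z} : Set G)) := by
  classical
  have hle : f.range ≤ Subgroup.centralizer ({z} : Set G) := by
    rintro _ ⟨x, rfl⟩
    rw [Subgroup.mem_centralizer_iff]
    intro y hy
    rw [Set.mem_singleton_iff] at hy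
    rw [hy]
    exact (hfz x).symm
  -- injectivity
  have hinj : Function.Injective f := by
    have hsurj : Function.Surjective f.rangeRestrict := f.rangeRestrict_surjective
    have hcard : Nat.card f.range ≤ Nat.card P := Nat.card_le_card_of_surjective _ hsurj
    have heq : Nat.card P = Nat.card f.range := le_antisymm (le_trans hP hR) hcard
    have : Fintype P := Fintype.ofFinite P
    have : Fintype f.range := Fintype.ofFinite _
    have hbij : Function.Bijective f.rangeRestrict := by
      rw [Fintype.bijective_iff_surjective_and_card]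
      refine ⟨hsurj, ?_⟩
      rw [← Nat.card_eq_fintype_card, ← Nat.card_eq_fintype_card]
      exact heq
    intro a b hab
    apply hbij.1
    exact Subtype.ext hab
  -- the image is the whole centraliser
  have hrange : f.range = Subgroup.centralizer ({z} : Set G) := by
    apply Subgroup.eq_of_le_of_card_ge hle
    exact le_trans hC hR
  let e1 : P ≃* f.range := MonoidHom.ofInjective hinj
  exact ⟨e1.trans (MulEquiv.subgroupCongr hrange)⟩

end Cfsg.Agent.Helper28.HeCent
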