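import Mathlib

set_option autoImplicit false

/-!
# Stabiliser chains for a group action

For a subgroup `K` of a group acting on `X` and a list `bs` of points, `K ⊓ fixAll bs` is the pointwise stabiliser of
`bs` in `K`.  Its order is the length of the orbit of a further point `b` times the order of `K ⊓ fixAll (b :: bs)`;
this gives lower and upper bounds for the order of `K`.
-/

namespace Cfsg.Agent.Helper28.HeCent

variable {G X : Type*} [Group G] [MulAction G X]

/-- the elements fixing every point of a list -/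
def fixAll (bs : List X) : Subgroup G where
  carrier := {g | ∀ b ∈ bs, g • b = b}
  mul_mem' := by
    intro g h hg hh b hb
    rw [mul_smul, hh b hb, hg b hb]
  one_mem' := by intro b _; exact one_smul G b
  inv_mem' := by
    intro g hg b hb
    rw [inv_smul_eq_iff]
    exact (hg b hb).symm

theorem mem_fixAll (bs : List X) (g : G) : g ∈ fixAll bs ↔ ∀ b ∈ bs, g • b = b := Iff.rfl

theorem fixAll_nil : fixAll ([] : List X) = (⊤ : Subgroup G) := by
  ext g
  simp [mem_fixAll]

/-- the stabiliser of `b` in `K ⊓ fixAll bs` is `K ⊓ fixAll (b :: bs)` -/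
def stabEquivA (K : Subgroup G) (bs : List X) (b : X) :
    MulAction.stabilizer (↥(K ⊓ fixAll bs)) b ≃ ↥(K ⊓ fixAll (b :: bs)) where
  toFun σ := ⟨σ.1.1, ⟨σ.1.2.1, by
    intro c hc
    rcases List.mem_cons.mp hc with rfl | hc
    · exact σ.2
    · exact σ.1.2.2 c hc⟩⟩
  invFun σ := ⟨⟨σ.1, ⟨σ.2.1, fun c hc => σ.2.2 c (List.mem_cons_of_mem _ hc)⟩⟩,
    σ.2.2 b List.mem_cons_self⟩
  left_inv σ := rfl
  right_inv σ := rfl

/-- one step of the stabiliser chain -/
theorem card_levelA (K : Subgroup G) (bs : List X) (b : X) :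
    Nat.card ↥(K ⊓ fixAll bs) =
      (MulAction.orbit (↥(K ⊓ fixAll bs)) b).ncard * Nat.card ↥(K ⊓ fixAll (b :: bs)) := by
  rw [← Nat.card_congr (stabEquivA K bs b), ← MulAction.index_stabilizer, mul_comm]
  exact (Subgroup.card_mul_index _).symm

theorem card_level0A (K : Subgroup G) : Nat.card ↥K = Nat.card ↥(K ⊓ fixAll ([] : List X)) := by
  rw [fixAll_nil, inf_top_eq]

theorem orbit_finite [Finite G] (L : Subgroup G) (b : X) : (MulAction.orbit (↥L) b).Finite := by
  show (Set.range fun g : L => g • b).Finite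
  exact Set.finite_range _

/-- one step of the chain as a lower bound -/
theorem card_levelA_ge [Finite G] (K : Subgroup G) (bs : List X) (b : X) (S : Finset X)
    (h : ∀ y ∈ S, ∃ g ∈ K ⊓ fixAll bs, g • b = y) (m c : ℕ)
    (hm : m ≤ S.card) (hc : c ≤ Nat.card ↥(K ⊓ fixAll (b :: bs))) :
    m * c ≤ Nat.card ↥(K ⊓ fixAll bs) := by
  rw [card_levelA K bs b]
  have h1 : S.card ≤ (MulAction.orbit (↥(K ⊓ fixAll bs)) b).ncard := by
    rw [← Set.ncard_coe_finset]
    apply Set.ncard_le_ncard _ (orbit_finite _ b)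
    intro y hy
    obtain ⟨g, hg, rfl⟩ := h y hy
    exact ⟨⟨g, hg⟩, rfl⟩
  exact Nat.mul_le_mul (le_trans hm h1) hc

/-- one step of the chain as an upper bound -/
theorem card_levelA_le [Finite G] (K : Subgroup G) (bs : List X) (b : X) (S : Finset X)
    (h : ∀ g ∈ K ⊓ fixAll bs, g • b ∈ S) (m c : ℕ)
    (hm : S.card ≤ m) (hc : Nat.card ↥(K ⊓ fixAll (b :: bs)) ≤ c) :
    Nat.card ↥(K ⊓ fixAll bs) ≤ m * c := by
  rw [card_levelA K bs b]
  have h1 : (MulAction.orbit (↥(K ⊓ fixAll bs)) b).ncard ≤ S.card := by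
    rw [← Set.ncard_coe_finset]
    apply Set.ncard_le_ncard _ (Finset.finite_toSet S)
    rintro y ⟨g, rfl⟩
    exact h g.1 g.2
  exact Nat.mul_le_mul (le_trans h1 hm) hc

end Cfsg.Agent.Helper28.HeCent
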