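import Cfsg.Agent.Helper28.CosetChain

set_option autoImplicit false

/-!
# One level of a stabiliser chain for a subgroup of the permutation group of a coset table

The same as `level_reach` / `level_ge` of `CosetChain`, for a subgroup `K` that contains the level words.
-/

namespace Cfsg.Agent.Helper28.HeCent

open Cfsg.Agent.Helper28

section Chain

variable {α : Type} (gen : Nat → α) (idx : α → Nat) (ngen : Nat)
variable (P : PTabs) (hinv : invOk P = true) (hL : P.L = 2 * ngen)

theorem level_reach_sub (hig : ∀ k, k < ngen → idx (gen k) = k)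
    (K : Subgroup (Equiv.Perm (Fin P.n)))
    (ws : Nat → List Nat) (nw : Nat) (hlet : lettersOkW ws nw P.L = true)
    (hK : ∀ s, s < nw → (rhoF idx ngen P hinv hL (ev gen ngen (ws s)))⁻¹ ∈ K)
    (bs : List Nat) (hfix : fixOkW ws nw P bs = true)
    (orb : Nat → Nat) (hok : checkOrbW ws nw P orb = true) :
    ∀ i : Fin P.n, ∃ σ ∈ K ⊓ fixAllN bs, ∃ k : Fin P.n,
      k.val = oRoot (orb i.val) ∧ σ k = i := by
  have hlet' : ∀ s, s < nw → ∀ l ∈ ws s, l < P.L := by
    intro s hs l hl
    have := allL_sound _ _ (allLt_sound _ _ hlet s hs) l hl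
    rwa [blt_eq] at this
  -- the level generators
  have hgen : ∀ s, s < nw →
      (rhoF idx ngen P hinv hL (ev gen ngen (ws s)))⁻¹ ∈ K ⊓ fixAllN bs := by
    intro s hs
    refine ⟨hK s hs, ?_⟩
    intro b hb hbn
    apply Fin.ext
    rw [rhoF_ev_inv gen idx ngen P hinv hL hig (ws s) (hlet' s hs)]
    have := allL_sound _ _ (allLt_sound _ _ hfix s hs) b hb
    rwa [nbeq_eq] at this
  have hmain : ∀ d, ∀ i : Fin P.n, oDep (orb i.val) = d →
      ∃ σ ∈ K ⊓ fixAllN bs, ∃ k : Fin P.n,
        k.val = oRoot (orb i.val) ∧ σ k = i := by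
    intro d
    induction d using Nat.strong_induction_on with
    | _ d ih =>
      intro i hd
      have h1 := allLt_sound _ _ hok i.val i.2
      unfold orbOkW at h1
      rcases brec_cases h1 with ⟨-, h3⟩ | ⟨-, h3⟩
      · obtain ⟨hp, h3⟩ := brec_false_true h3
        obtain ⟨hs, h3⟩ := brec_false_true h3
        obtain ⟨hdep, h3⟩ := brec_false_true h3
        obtain ⟨htr, hrt⟩ := brec_false_true h3
        rw [blt_eq] at hp hs hdep
        rw [nbeq_eq] at htr hrt
        obtain ⟨σ', hσ', k, hk, hkp⟩ := ih _ (by rw [← hd]; exact hdep) ⟨oPar (orb i.val), hp⟩ rfl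
        refine ⟨(rhoF idx ngen P hinv hL (ev gen ngen (ws (oGen (orb i.val)))))⁻¹ * σ',
          Subgroup.mul_mem _ (hgen _ hs) hσ', k, by rw [hk, ← hrt], ?_⟩
        rw [Equiv.Perm.mul_apply, hkp]
        apply Fin.ext
        rw [rhoF_ev_inv gen idx ngen P hinv hL hig _ (hlet' _ hs)]
        exact htr
      · rw [nbeq_eq] at h3
        exact ⟨1, Subgroup.one_mem _, i, h3.symm, rfl⟩
  intro i
  exact hmain _ i rfl

/-- one level of the chain as an inequality of orders -/
theorem level_ge_sub (hig : ∀ k, k < ngen → idx (gen k) = k)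
    (K : Subgroup (Equiv.Perm (Fin P.n)))
    (ws : Nat → List Nat) (nw : Nat) (hlet : lettersOkW ws nw P.L = true)
    (hK : ∀ s, s < nw → (rhoF idx ngen P hinv hL (ev gen ngen (ws s)))⁻¹ ∈ K)
    (bs : List Nat) (hfix : fixOkW ws nw P bs = true)
    (orb : Nat → Nat) (hok : checkOrbW ws nw P orb = true)
    (b : Nat) (hb : b < P.n) (m c : ℕ)
    (hm : countEq (fun j => oRoot (orb j)) b P.n = m)
    (hc : c ≤ Nat.card ↥(K ⊓ fixAllN (b :: bs))) :
    m * c ≤ Nat.card ↥(K ⊓ fixAllN bs) := by
  apply card_level_ge K bs b hb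
    (Finset.univ.filter (fun j : Fin P.n => oRoot (orb j.val) = b)) _ m c _ hc
  · intro j hj
    obtain ⟨σ, hσ, k, hk, hkj⟩ := level_reach_sub gen idx ngen P hinv hL hig K ws nw hlet hK bs hfix orb hok j
    refine ⟨σ, hσ, ?_⟩
    have : k = ⟨b, hb⟩ := by
      apply Fin.ext
      rw [hk]
      exact (Finset.mem_filter.mp hj).2
    rw [← this]
    exact hkj
  · rw [card_filter_eq_countEq (fun j => oRoot (orb j)) b P.n, hm]

end Chain

end Cfsg.Agent.Helper28.HeCent
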