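import Cfsg.Agent.Helper28.HeCent.HeCheck
import Cfsg.Agent.Helper28.HeCent.Abs
import Cfsg.Agent.Helper28.CoxHom
set_option autoImplicit false
set_option maxRecDepth 1000000

/-!
# The centraliser of the generator `d` in the presented Held group

It is isomorphic to the presented group `HCP` (of order `21504`): the four elements `a, b, fdcdf, gdcdg` commute with
`d`, satisfy the relators of `HCP` and generate a subgroup of order at least `21504` (stabiliser chain on the
`2058` points), and the centraliser has order at most `21504` (there are `3825` conjugates of `d` in a point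
stabiliser, and `d` fixes `42` points).
-/

namespace Cfsg.Agent.Helper28.HeCent
open Cfsg.Agent.Helper28 Cfsg.Spor

/-- the presented Held group -/
abbrev GG : Type := PresentedGroup He1.R
/-- the presented group `2^{1+6}:L₃(2)` -/
abbrev PP : Type := PresentedGroup HCPA.R

/-- the generator `d` -/
def zG : GG := PresentedGroup.mk He1.R He.d

/-- the permutation representation on `2058` points -/
noncomputable abbrev rho : GG →* Equiv.Perm (Fin He1.ptabs.n) :=
  rhoG He1.R He1.idx 7 He1.ptabs He1.inv_ok He1.layout.hL HeC.hrels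

theorem rho_injective : Function.Injective rho := HeC.card_inj.2

instance finite_GG : Finite GG := Nat.finite_of_card_ne_zero (by rw [HeC.card_inj.1]; norm_num)

/-! ## The homomorphism -/

/-- the substituted relator words -/
noncomputable def rwH (j : Nat) : List Nat := (HCPA.tabs.word (1 + j)).flatMap (substL waH)

theorem letH : lettersOkW rwH 18 He1.ptabs.L = true := by decide +kernel
theorem fixH : fixOkW rwH 18 He1.ptabs [534, 974, 1, 0] = true := by decide +kernel

/-- the images of the generators -/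
noncomputable def F0 : FreeGroup HCP.Gen →* GG :=
  FreeGroup.lift (homF HCPA.idx He1.R He1.gen 7 waH)

theorem F0_ev (w : List Nat) (hl : ∀ l ∈ w, l < 2 * 4) :
    F0 (ev HCPA.gen 4 w) = PresentedGroup.mk He1.R (ev He1.gen 7 (w.flatMap (substL waH))) := by
  unfold F0
  exact lift_homF_ev HCPA.gen HCPA.idx 4 He1.R He1.gen 7 waH HCPA.layout.hig _ hl

theorem nsubP : HCPA.tabs.nsub = 1 := by decide +kernel

theorem F0_word (r : Nat) (h1 : 1 ≤ r) (h2 : r < 19) :
    F0 (ev HCPA.gen 4 (HCPA.tabs.word r)) = 1 := by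
  have hl : ∀ l ∈ HCPA.tabs.word r, l < 2 * 4 := by
    intro l hl
    have h := HCPA.layout.hletters r (by rw [HCPA.layout.hnwords, nsubP]; decide +revert) l hl
    rw [HCPA.layout.hL] at h
    exact h
  rw [F0_ev _ hl]
  have e : (HCPA.tabs.word r).flatMap (substL waH) = rwH (r - 1) := by
    unfold rwH
    have : 1 + (r - 1) = r := by omega
    rw [this]
  rw [e]
  apply He462.mk_eq_one_of_base
  · intro l hl
    have := allL_sound _ _ (allLt_sound _ _ letH (r - 1) (by omega)) l hl
    rwa [blt_eq] at this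
  · intro b hb
    have := allL_sound _ _ (allLt_sound _ _ fixH (r - 1) (by omega)) b hb
    rwa [nbeq_eq] at this

theorem F0_rels : ∀ r ∈ HCPA.R, F0 r = 1 := by
  have h := HCPA.layout.map_rels_mem F0 ⊥ (by
    intro r h1 h2
    rw [Subgroup.mem_bot]
    have hx : HCP.extra.length = 2 := by decide
    rw [nsubP, hx] at h2
    rw [nsubP] at h1
    exact F0_word r h1 (by omega))
  intro r hr
  exact (Subgroup.mem_bot).mp (h r hr)

/-- the homomorphism from the presented group `HCP` to the Held group -/
noncomputable def fH : PP →* GG := PresentedGroup.toGroup F0_rels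

theorem fH_mk (x : FreeGroup HCP.Gen) : fH (PresentedGroup.mk HCPA.R x) = F0 x := rfl

/-! ## The image commutes with `d` -/

/-- the commutator words of the generators with `d` -/
noncomputable def cwH (s : Nat) : List Nat := waH s ++ [6] ++ invW (waH s) ++ [7]

theorem letC : lettersOkW cwH 4 He1.ptabs.L = true := by decide +kernel
theorem fixC : fixOkW cwH 4 He1.ptabs [534, 974, 1, 0] = true := by decide +kernel

theorem ev6 : ev He1.gen 7 [6] = He.d := by decide +kernel
theorem ev7 : ev He1.gen 7 [7] = He.d⁻¹ := by decide +kernel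

theorem comm_gen (s : Nat) (hs : s < 4) :
    PresentedGroup.mk He1.R (ev He1.gen 7 (waH s)) * zG = zG * PresentedGroup.mk He1.R (ev He1.gen 7 (waH s)) := by
  have h := He462.mk_eq_one_of_base (cwH s)
    (by
      intro l hl
      have := allL_sound _ _ (allLt_sound _ _ letC s hs) l hl
      rwa [blt_eq] at this)
    (by
      intro b hb
      have := allL_sound _ _ (allLt_sound _ _ fixC s hs) b hb
      rwa [nbeq_eq] at this)
  have e : ev He1.gen 7 (cwH s) =
      ev He1.gen 7 (waH s) * He.d * (ev He1.gen 7 (waH s))⁻¹ * He.d⁻¹ := by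
    have h6 := ev6
    have h7 := ev7
    unfold ev at h6 h7 ⊢
    unfold cwH
    rw [wv_append, wv_append, wv_append, wv_invW, h6, h7]
  rw [e, map_mul, map_mul, map_mul, map_inv, map_inv] at h
  have h' : PresentedGroup.mk He1.R (ev He1.gen 7 (waH s)) * zG *
      (PresentedGroup.mk He1.R (ev He1.gen 7 (waH s)))⁻¹ * zG⁻¹ = 1 := h
  calc PresentedGroup.mk He1.R (ev He1.gen 7 (waH s)) * zG
      = (PresentedGroup.mk He1.R (ev He1.gen 7 (waH s)) * zG *
          (PresentedGroup.mk He1.R (ev He1.gen 7 (waH s)))⁻¹ * zG⁻¹) * zG *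
            PresentedGroup.mk He1.R (ev He1.gen 7 (waH s)) := by group
    _ = zG * PresentedGroup.mk He1.R (ev He1.gen 7 (waH s)) := by rw [h', one_mul]

theorem fH_comm (x : PP) : fH x * zG = zG * fH x := by
  have hle : fH.range ≤ Subgroup.centralizer {zG} := by
    have hr : fH.range = Subgroup.closure (Set.range fun b : HCP.Gen => fH (PresentedGroup.of b)) := by
      rw [MonoidHom.range_eq_map, ← PresentedGroup.closure_range_of, MonoidHom.map_closure, ← Set.range_comp]
      rfl
    rw [hr, Subgroup.closure_le]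
    rintro _ ⟨b, rfl⟩
    show fH (PresentedGroup.of b) ∈ Subgroup.centralizer {zG}
    rw [Subgroup.mem_centralizer_iff]
    intro g hg
    rw [Set.mem_singleton_iff] at hg
    rw [hg]
    have hb : fH (PresentedGroup.of b) = PresentedGroup.mk He1.R (ev He1.gen 7 (waH (HCPA.idx b))) := by
      show F0 (FreeGroup.of b) = _
      unfold F0
      rw [FreeGroup.lift_apply_of]
      rfl
    rw [hb]
    have hi : HCPA.idx b < 4 := (HCPA.layout.hgi b).1
    exact (comm_gen _ hi).symm
  have := Subgroup.mem_centralizer_iff.mp (hle ⟨x, rfl⟩) zG (Set.mem_singleton _)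
  exact this.symm

/-! ## The order of the presented group -/

theorem card_PP_pos_le : 0 < Nat.card PP ∧ Nat.card PP ≤ 21504 := by
  have h := Subgroup.card_mul_index (HH HCPA.R HCPA.Y)
  rw [HCPA.main_index] at h
  -- the subgroup is cyclic of order dividing 4
  let g : PP := PresentedGroup.mk HCPA.R (HCP.p * HCP.q)
  have hH : HH HCPA.R HCPA.Y = Subgroup.zpowers g := by
    have hY : (HCPA.Y : Set (FreeGroup HCP.Gen)) = {HCP.p * HCP.q} := by
      ext y
      simp [HCPA.Ylist]
    show (Subgroup.closure HCPA.Y).map (PresentedGroup.mk HCPA.R) = _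
    rw [hY, MonoidHom.map_closure, Set.image_singleton, Subgroup.zpowers_eq_closure]
  have hg4 : g ^ 4 = 1 := by
    have h1 : (FreeGroup.of HCP.Gen.p * FreeGroup.of HCP.Gen.q) ^ coxLabel HCP.edges HCP.Gen.p HCP.Gen.q ∈
        HCPA.R := Or.inl ⟨.p, by decide, .q, by decide, rfl⟩
    have h2 := (PresentedGroup.mk_eq_one_iff (rels := HCPA.R)).mpr (Subgroup.subset_normalClosure h1)
    have e : coxLabel HCP.edges HCP.Gen.p HCP.Gen.q = 4 := by decide
    rw [e, map_pow] at h2
    exact h2
  have ho : orderOf g ∣ 4 := orderOf_dvd_of_pow_eq_one hg4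
  have ho1 : 0 < orderOf g := Nat.pos_of_dvd_of_pos ho (by norm_num)
  have ho2 : orderOf g ≤ 4 := Nat.le_of_dvd (by norm_num) ho
  rw [hH, Nat.card_zpowers] at h
  constructor
  · rw [← h]; positivity
  · rw [← h]
    calc orderOf g * 5376 ≤ 4 * 5376 := Nat.mul_le_mul_right _ ho2
      _ = 21504 := by norm_num

instance finite_PP : Finite PP := Nat.finite_of_card_ne_zero (by have := card_PP_pos_le.1; omega)

/-! ## The order of the image -/

/-- the image as a permutation group -/
noncomputable abbrev KP : Subgroup (Equiv.Perm (Fin He1.ptabs.n)) := fH.range.map rho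

theorem word_mem_KP (u : List Nat) (hu : ∀ l ∈ u, l < 2 * 4) :
    (rhoF He1.idx 7 He1.ptabs He1.inv_ok He1.layout.hL (ev He1.gen 7 (u.flatMap (substL waH))))⁻¹ ∈ KP := by
  apply Subgroup.inv_mem
  refine ⟨PresentedGroup.mk He1.R (ev He1.gen 7 (u.flatMap (substL waH))), ?_, rfl⟩
  refine ⟨PresentedGroup.mk HCPA.R (ev HCPA.gen 4 u), ?_⟩
  rw [fH_mk, F0_ev u hu]

theorem hK_of (us : Nat → List Nat) (nw : Nat) (h : lettersOkW us nw 8 = true) :
    ∀ s, s < nw → (rhoF He1.idx 7 He1.ptabs He1.inv_ok He1.layout.hL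
      (ev He1.gen 7 ((us s).flatMap (substL waH))))⁻¹ ∈ KP := by
  intro s hs
  apply word_mem_KP
  intro l hl
  have := allL_sound _ _ (allLt_sound _ _ h s hs) l hl
  rwa [blt_eq] at this

theorem lower_bound : 21504 ≤ Nat.card fH.range := by
  have h4 := level_ge_sub He1.gen He1.idx 7 He1.ptabs He1.inv_ok He1.layout.hL He1.layout.hig KP ws4 1 let_ok4
    (hK_of us4 1 ulet_ok4) [5, 0, 2] fix_ok4 orb4 orb_ok4 8 (by decide +kernel) 2 1 cnt4 (one_le_card_sub _)
  have h3 := level_ge_sub He1.gen He1.idx 7 He1.ptabs He1.inv_ok He1.layout.hL He1.layout.hig KP ws3 1 let_ok3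
    (hK_of us3 1 ulet_ok3) [0, 2] fix_ok3 orb3 orb_ok3 5 (by decide +kernel) 2 (2 * 1) cnt3 h4
  have h2 := level_ge_sub He1.gen He1.idx 7 He1.ptabs He1.inv_ok He1.layout.hL He1.layout.hig KP ws2 3 let_ok2
    (hK_of us2 3 ulet_ok2) [2] fix_ok2 orb2 orb_ok2 0 (by decide +kernel) 16 (2 * (2 * 1)) cnt2 h3
  have h1 := level_ge_sub He1.gen He1.idx 7 He1.ptabs He1.inv_ok He1.layout.hL He1.layout.hig KP ws1 4 let_ok1
    (hK_of us1 4 ulet_ok1) [] fix_ok1 orb1 orb_ok1 2 (by decide +kernel) 336 (16 * (2 * (2 * 1))) cnt1 h2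
  rw [← card_level0N] at h1
  have e : Nat.card ↥KP = Nat.card fH.range := Subgroup.card_map_of_injective rho_injective
  rw [e] at h1
  exact le_trans (by norm_num) h1

end Cfsg.Agent.Helper28.HeCent
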