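import Cfsg.Agent.Helper28.HeCent.He
set_option autoImplicit false
set_option maxRecDepth 1000000

/-!
# The order of the centraliser of `d` in the presented Held group, and its identification
-/

namespace Cfsg.Agent.Helper28.HeCent
open Cfsg.Agent.Helper28 Cfsg.Spor

/-- the base point -/
def x0 : Fin He1.ptabs.n := ⟨0, He1.hn⟩

theorem stab_mem (g : GG) (h : rho g x0 = x0) : g ∈ HH He1.R He1.Y :=
  ((cox_cert He1.inv_ok He1.layout He1.hn He1.defs_ok 25080 He1.facts_upto3 He1.fin_ok He1.par_ok
    He1.hperm_all He1.subfix_all).2.1 g).mp h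

theorem card_stab : Nat.card (HH He1.R He1.Y) = 1958400 := by
  have h := Subgroup.card_mul_index (HH He1.R He1.Y)
  rw [He1.main_index, HeC.card_inj.1] at h
  omega

theorem rho_inv_trace (w : List Nat) (hl : ∀ l ∈ w, l < He1.ptabs.L) (x : Fin He1.ptabs.n) :
    (((rho (PresentedGroup.mk He1.R (ev He1.gen 7 w)))⁻¹) x).val = trace He1.ptabs.perm w x.val :=
  rhoF_ev_inv He1.gen He1.idx 7 He1.ptabs He1.inv_ok He1.layout.hL He1.layout.hig w hl x

/-! ## The conjugates of `d` in the point stabiliser -/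

/-- the conjugating elements -/
noncomputable def gC (i : Fin 3825) : GG := (PresentedGroup.mk He1.R (ev He1.gen 7 (cwD i.val)))⁻¹

theorem conj_eq (i : Fin 3825) :
    gC i * zG * (gC i)⁻¹ = PresentedGroup.mk He1.R (ev He1.gen 7 (cwU i.val)) := by
  have h6 := ev6
  unfold ev at h6
  unfold gC zG cwU ev
  rw [wv_append, wv_append, wv_invW, h6, map_mul, map_mul, map_inv, inv_inv]

theorem cwU_let (i : Nat) (hi : i < 3825) : ∀ l ∈ cwU i, l < He1.ptabs.L := by
  intro l hl
  have := allL_sound _ _ (cw_let_all i hi) l hl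
  rwa [blt_eq] at this

theorem conj_fix (i : Fin 3825) : rho (gC i * zG * (gC i)⁻¹) x0 = x0 := by
  rw [conj_eq]
  have h := rho_inv_trace (cwU i.val) (cwU_let i.val i.2) x0
  have h0 := cw_fix_all i.val i.2
  rw [nbeq_eq] at h0
  have h1 : ((rho (PresentedGroup.mk He1.R (ev He1.gen 7 (cwU i.val))))⁻¹) x0 = x0 := by
    apply Fin.ext
    rw [h]
    exact h0
  rw [Equiv.Perm.inv_eq_iff_eq] at h1
  exact h1.symm

theorem sig_step (k : Nat) (hk : k < 3824) : sigW (cwU k) < sigW (cwU (k + 1)) := by
  have := cw_sig_all k hk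
  rwa [blt_eq] at this

theorem sig_lt (i j : Nat) (hij : i < j) (hj : j < 3825) : sigW (cwU i) < sigW (cwU j) := by
  induction j with
  | zero => omega
  | succ k ih =>
    have hk := sig_step k (by omega)
    rcases Nat.lt_succ_iff_lt_or_eq.mp hij with h | h
    · exact lt_trans (ih h (by omega)) hk
    · rw [h]; exact hk

theorem sig_eq_of_eq (i j : Fin 3825)
    (h : PresentedGroup.mk He1.R (ev He1.gen 7 (cwU i.val)) = PresentedGroup.mk He1.R (ev He1.gen 7 (cwU j.val))) :
    sigW (cwU i.val) = sigW (cwU j.val) := by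
  have ht : ∀ b : Fin He1.ptabs.n, trace He1.ptabs.perm (cwU i.val) b.val = trace He1.ptabs.perm (cwU j.val) b.val := by
    intro b
    rw [← rho_inv_trace (cwU i.val) (cwU_let i.val i.2) b, ← rho_inv_trace (cwU j.val) (cwU_let j.val j.2) b, h]
  have h1 := ht ⟨534, by decide +kernel⟩
  have h2 := ht ⟨974, by decide +kernel⟩
  have h3 := ht ⟨1, by decide +kernel⟩
  unfold sigW
  rw [h1, h2, h3]

theorem conj_inj : Function.Injective fun i : Fin 3825 => gC i * zG * (gC i)⁻¹ := by
  intro i j hij
  have hij' : gC i * zG * (gC i)⁻¹ = gC j * zG * (gC j)⁻¹ := hij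
  rw [conj_eq, conj_eq] at hij'
  have hs := sig_eq_of_eq i j hij'
  apply Fin.ext
  rcases Nat.lt_trichotomy i.val j.val with h | h | h
  · exact absurd hs (ne_of_lt (sig_lt _ _ h j.2))
  · exact h
  · exact absurd hs.symm (ne_of_lt (sig_lt _ _ h i.2))

/-! ## The fixed points of `d` -/

/-- a function vanishing exactly at the fixed points of `d` -/
noncomputable def fd (j : Nat) : Nat := Nat.add (Nat.sub (He1.ptabs.perm 6 j) j) (Nat.sub j (He1.ptabs.perm 6 j))

/-- the fixed points of `d` -/
noncomputable def Fd : Finset (Fin He1.ptabs.n) := Finset.univ.filter (fun x : Fin He1.ptabs.n => fd x.val = 0)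

theorem card_Fd : Fd.card = 42 := by
  have h := card_filter_eq_countEq fd 0 He1.ptabs.n
  rw [show (Finset.univ.filter (fun x : Fin He1.ptabs.n => fd x.val = 0)) = Fd from rfl] at h
  rw [h]
  exact fix_d

theorem mem_Fd (x : Fin He1.ptabs.n) (h : rho zG x = x) : x ∈ Fd := by
  have e : zG = PresentedGroup.mk He1.R (ev He1.gen 7 [6]) := by rw [ev6]; rfl
  have h1 : ((rho zG)⁻¹) x = x := by
    rw [Equiv.Perm.inv_eq_iff_eq]
    exact h.symm
  have h2 := rho_inv_trace [6] (by decide +kernel) x
  rw [← e, h1] at h2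
  have h3 : He1.ptabs.perm 6 x.val = x.val := h2.symm
  unfold Fd
  rw [Finset.mem_filter]
  refine ⟨Finset.mem_univ _, ?_⟩
  unfold fd
  rw [h3]
  show x.val - x.val + (x.val - x.val) = 0
  omega

/-! ## The centraliser -/

theorem card_cent_le : Nat.card (Subgroup.centralizer ({zG} : Set GG)) ≤ 21504 := by
  have h := card_centralizer_mul_le rho zG x0 (HH He1.R He1.Y) stab_mem Fd mem_Fd 3825 gC conj_fix conj_inj
  rw [card_Fd, card_stab] at h
  omega

/-- the centraliser of `d` in the Held group is isomorphic to the presented group `HCP` -/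
theorem iso_He : Nonempty (PP ≃* Subgroup.centralizer ({zG} : Set GG)) :=
  mulEquiv_centralizer_of_card fH zG fH_comm 21504 card_PP_pos_le.2 card_cent_le inferInstance lower_bound

theorem card_PP : Nat.card PP = 21504 := by
  obtain ⟨e⟩ := iso_He
  have h1 := Nat.card_congr e.toEquiv
  have h2 : 21504 ≤ Nat.card (Subgroup.centralizer ({zG} : Set GG)) := by
    have hle : fH.range ≤ Subgroup.centralizer {zG} := by
      rintro _ ⟨x, rfl⟩
      rw [Subgroup.mem_centralizer_iff]
      intro y hy
      rw [Set.mem_singleton_iff] at hy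
      rw [hy]
      exact (fH_comm x).symm
    exact le_trans lower_bound (Subgroup.card_le_of_le hle)
  have h3 := card_cent_le
  omega

/-- `d` has order two -/
theorem orderOf_zG : orderOf zG = 2 := by
  have h1 : (FreeGroup.of He.Gen.d * FreeGroup.of He.Gen.d) ^ coxLabel He.edges He.Gen.d He.Gen.d ∈
      He1.R := Or.inl ⟨.d, by decide, .d, by decide, rfl⟩
  have h2 := (PresentedGroup.mk_eq_one_iff (rels := He1.R)).mpr (Subgroup.subset_normalClosure h1)
  have e : coxLabel He.edges He.Gen.d He.Gen.d = 1 := by decide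
  rw [e, pow_one, map_mul] at h2
  have hsq : zG ^ 2 = 1 := by rw [pow_two]; exact h2
  have hne : zG ≠ 1 := by
    intro h
    have h3 := rho_inv_trace [6] (by decide +kernel) ⟨2, by decide +kernel⟩
    have e6 : PresentedGroup.mk He1.R (ev He1.gen 7 [6]) = zG := by rw [ev6]; rfl
    rw [e6, h, map_one, inv_one] at h3
    have h4 : trace He1.ptabs.perm [6] 2 ≠ 2 := by decide +kernel
    exact h4 h3.symm
  exact orderOf_eq_prime hsq hne

end Cfsg.Agent.Helper28.HeCent
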