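import Cfsg.Agent.Helper28.HeCent.HeCheckA
set_option autoImplicit false
set_option maxRecDepth 1000000

/-!
# Kernel checks of the data for the centraliser of `d`, part B (machine generated)
-/

namespace Cfsg.Agent.Helper28.HeCent
open Cfsg.Agent.Helper28 Cfsg.Agent.Helper28.He1

theorem cw_let_0 : allLtFrom fLet (425 * 0) 425 = true := by decide +kernel
theorem cw_let_1 : allLtFrom fLet (425 * 1) 425 = true := by decide +kernel
theorem cw_let_2 : allLtFrom fLet (425 * 2) 425 = true := by decide +kernel
theorem cw_let_3 : allLtFrom fLet (425 * 3) 425 = true := by decide +kernel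
theorem cw_let_4 : allLtFrom fLet (425 * 4) 425 = true := by decide +kernel
theorem cw_let_5 : allLtFrom fLet (425 * 5) 425 = true := by decide +kernel
theorem cw_let_6 : allLtFrom fLet (425 * 6) 425 = true := by decide +kernel
theorem cw_let_7 : allLtFrom fLet (425 * 7) 425 = true := by decide +kernel
theorem cw_let_8 : allLtFrom fLet (425 * 8) 425 = true := by decide +kernel

end Cfsg.Agent.Helper28.HeCent
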