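import Cfsg.Agent.Helper28.HeCent.HeCheckA
set_option autoImplicit false
set_option maxRecDepth 1000000

/-!
# Kernel checks of the data for the centraliser of `d`, part D2 (machine generated)
-/

namespace Cfsg.Agent.Helper28.HeCent
open Cfsg.Agent.Helper28 Cfsg.Agent.Helper28.He1

theorem cw_sig_4 : allLtFrom fSig (478 * 4) 478 = true := by decide +kernel
theorem cw_sig_5 : allLtFrom fSig (478 * 5) 478 = true := by decide +kernel
theorem cw_sig_6 : allLtFrom fSig (478 * 6) 478 = true := by decide +kernel
theorem cw_sig_7 : allLtFrom fSig (478 * 7) 478 = true := by decide +kernel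

end Cfsg.Agent.Helper28.HeCent
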