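import Cfsg.Agent.Helper28.HeCent.HeCheckA
import Cfsg.Agent.Helper28.HeCent.HeCheckB
import Cfsg.Agent.Helper28.HeCent.HeCheckC
import Cfsg.Agent.Helper28.HeCent.HeCheckD1
import Cfsg.Agent.Helper28.HeCent.HeCheckD2
set_option autoImplicit false

/-!
# Kernel checks of the data for the centraliser of `d` (the checks of the 3825 conjugates are split into chunks)
-/

namespace Cfsg.Agent.Helper28.HeCent
open Cfsg.Agent.Helper28 Cfsg.Agent.Helper28.He1

theorem chunks_sound (f : Nat → Bool) (c n : Nat) (h : ∀ j, j < n → allLtFrom f (c * j) c = true) :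
    ∀ k, k < c * n → f k = true := by
  intro k hk
  have hc : 0 < c := by
    rcases Nat.eq_zero_or_pos c with h0 | h0
    · subst h0; simp at hk
    · exact h0
  have hj : k / c < n := Nat.div_lt_of_lt_mul hk
  have h1 := Nat.div_add_mod k c
  have h2 := Nat.mod_lt k hc
  exact allLtFrom_sound f (c * (k / c)) c (h _ hj) k (by omega) (by omega)

theorem cw_let_all : ∀ i, i < 3825 → allL (fun l => Nat.blt l ptabs.L) (cwU i) = true := by
  apply chunks_sound fLet 425 9
  intro j hj
  interval_cases j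
  exacts [cw_let_0, cw_let_1, cw_let_2, cw_let_3, cw_let_4, cw_let_5, cw_let_6, cw_let_7, cw_let_8]

theorem cw_fix_all : ∀ i, i < 3825 → Nat.beq (trace ptabs.perm (cwU i) 0) 0 = true := by
  apply chunks_sound fFix 425 9
  intro j hj
  interval_cases j
  exacts [cw_fix_0, cw_fix_1, cw_fix_2, cw_fix_3, cw_fix_4, cw_fix_5, cw_fix_6, cw_fix_7, cw_fix_8]

theorem cw_sig_all : ∀ i, i < 3824 → Nat.blt (sigW (cwU i)) (sigW (cwU (Nat.succ i))) = true := by
  apply chunks_sound fSig 478 8
  intro j hj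
  interval_cases j
  exacts [cw_sig_0, cw_sig_1, cw_sig_2, cw_sig_3, cw_sig_4, cw_sig_5, cw_sig_6, cw_sig_7]

end Cfsg.Agent.Helper28.HeCent
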