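import Cfsg.Agent.Helper28.HeCent.HeData
import Cfsg.Agent.Helper28.CosetBig
set_option autoImplicit false
set_option maxRecDepth 1000000

/-!
# Kernel checks of the data for the centraliser of `d`, part A (machine generated)
-/

namespace Cfsg.Agent.Helper28.HeCent
open Cfsg.Agent.Helper28 Cfsg.Agent.Helper28.He1

theorem orb_ok1 : checkOrbW ws1 4 ptabs orb1 = true := by decide +kernel
theorem let_ok1 : lettersOkW ws1 4 ptabs.L = true := by decide +kernel
theorem ulet_ok1 : lettersOkW us1 4 8 = true := by decide +kernel
theorem fix_ok1 : fixOkW ws1 4 ptabs [] = true := by decide +kernel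
theorem cnt1 : countEq (fun j => oRoot (orb1 j)) 2 2058 = 336 := by decide +kernel
theorem orb_ok2 : checkOrbW ws2 3 ptabs orb2 = true := by decide +kernel
theorem let_ok2 : lettersOkW ws2 3 ptabs.L = true := by decide +kernel
theorem ulet_ok2 : lettersOkW us2 3 8 = true := by decide +kernel
theorem fix_ok2 : fixOkW ws2 3 ptabs [2] = true := by decide +kernel
theorem cnt2 : countEq (fun j => oRoot (orb2 j)) 0 2058 = 16 := by decide +kernel
theorem orb_ok3 : checkOrbW ws3 1 ptabs orb3 = true := by decide +kernel
theorem let_ok3 : lettersOkW ws3 1 ptabs.L = true := by decide +kernel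
theorem ulet_ok3 : lettersOkW us3 1 8 = true := by decide +kernel
theorem fix_ok3 : fixOkW ws3 1 ptabs [0, 2] = true := by decide +kernel
theorem cnt3 : countEq (fun j => oRoot (orb3 j)) 5 2058 = 2 := by decide +kernel
theorem orb_ok4 : checkOrbW ws4 1 ptabs orb4 = true := by decide +kernel
theorem let_ok4 : lettersOkW ws4 1 ptabs.L = true := by decide +kernel
theorem ulet_ok4 : lettersOkW us4 1 8 = true := by decide +kernel
theorem fix_ok4 : fixOkW ws4 1 ptabs [5, 0, 2] = true := by decide +kernel
theorem cnt4 : countEq (fun j => oRoot (orb4 j)) 8 2058 = 2 := by decide +kernel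
theorem fix_d : countEq (fun j => Nat.add (Nat.sub (ptabs.perm 6 j) j) (Nat.sub j (ptabs.perm 6 j))) 0 2058 = 42 := by decide +kernel

/-- the letters of the word of a conjugate are in range -/
noncomputable def fLet (s : Nat) : Bool := allL (fun l => Nat.blt l ptabs.L) (cwU s)
/-- the conjugate fixes the base point -/
noncomputable def fFix (i : Nat) : Bool := Nat.beq (trace ptabs.perm (cwU i) 0) 0
/-- the signatures increase -/
noncomputable def fSig (i : Nat) : Bool := Nat.blt (sigW (cwU i)) (sigW (cwU (Nat.succ i)))

end Cfsg.Agent.Helper28.HeCent
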