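import Cfsg.Agent.Helper28.HeCent.He2
import Cfsg.Agent.Helper28.HeCent.ActChain
set_option autoImplicit false
set_option maxRecDepth 100000
set_option linter.unusedSimpArgs false

/-!
# The centraliser of a transvection of `SL₅(2)`

It is isomorphic to the presented group `HCP` (of order `21504`): four explicit matrices commute with the
transvection `1 + E₀₁`, satisfy the relators of `HCP` and generate a subgroup of order at least `21504` (stabiliser
chain on the vectors), and the centraliser has order at most `16 · 14 · 12 · 8 = 21504` (an element of the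
centraliser fixes the first basis vector and the second coordinate, and it is determined by the images of the other
four basis vectors).
-/

namespace Cfsg.Agent.Helper28.HeCent.SLside
open Cfsg.Agent.Helper28 Cfsg.Spor Matrix

/-- the matrices of degree 5 over the field of two elements -/
abbrev M5 : Type := Matrix (Fin 5) (Fin 5) (ZMod 2)
/-- the special linear group -/
abbrev S5 : Type := Matrix.SpecialLinearGroup (Fin 5) (ZMod 2)
/-- the vectors -/
abbrev V5 : Type := Fin 5 → ZMod 2

/-! ## The homomorphism -/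

/-- the images of the generators -/
def mY : HCP.Gen → M5
  | .p => !![1,0,1,0,0; 0,1,0,0,0; 0,0,1,0,0; 0,0,0,1,0; 0,1,0,0,1]
  | .q => !![1,1,0,0,0; 0,1,0,0,0; 0,0,0,0,1; 0,0,0,1,0; 0,0,1,0,0]
  | .r => !![1,1,0,0,0; 0,1,0,0,0; 0,0,1,0,0; 0,0,0,1,0; 0,0,1,1,1]
  | .s => !![1,1,0,0,0; 0,1,0,0,0; 0,0,1,0,0; 0,0,1,1,0; 0,0,1,0,1]

theorem mY_sq (x : HCP.Gen) : mY x * mY x = 1 := by cases x <;> decide +kernel

theorem zmod2_of_mul (a b : ZMod 2) (h : a * b = 1) : a = 1 := by revert a b; decide

theorem det_mY (x : HCP.Gen) : (mY x).det = 1 := by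
  have h := congrArg Matrix.det (mY_sq x)
  rw [Matrix.det_mul, Matrix.det_one] at h
  exact zmod2_of_mul _ _ h

/-- the images of the generators in the special linear group -/
def sY (x : HCP.Gen) : S5 := ⟨mY x, det_mY x⟩

theorem cox_ok (x y : HCP.Gen) : (mY x * mY y) ^ coxLabel HCP.edges x y = 1 := by
  cases x <;> cases y <;> decide +kernel

theorem extra_0 : mY .p * mY .q * mY .p * mY .q * mY .r * mY .s * mY .q * mY .p * mY .q * mY .r * mY .s * mY .q *
    mY .p * mY .q * mY .s * mY .r * mY .q * mY .p * mY .q * mY .s * mY .r = 1 := by decide +kernel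
theorem extra_1 : mY .p * mY .q * mY .s * mY .q * mY .p * mY .r * mY .s * mY .q * mY .r * mY .q * mY .s * mY .r *
    mY .p * mY .s * mY .q * mY .r * mY .s * mY .r = 1 := by decide +kernel

theorem rel_cox (x y : HCP.Gen) : (sY x * sY y) ^ coxLabel HCP.edges x y = 1 := by
  apply Subtype.ext
  show (mY x * mY y) ^ coxLabel HCP.edges x y = 1
  exact cox_ok x y

theorem rel_0 : sY .p * sY .q * sY .p * sY .q * sY .r * sY .s * sY .q * sY .p * sY .q * sY .r * sY .s * sY .q *
    sY .p * sY .q * sY .s * sY .r * sY .q * sY .p * sY .q * sY .s * sY .r = 1 := by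
  apply Subtype.ext
  exact extra_0
theorem rel_1 : sY .p * sY .q * sY .s * sY .q * sY .p * sY .r * sY .s * sY .q * sY .r * sY .q * sY .s * sY .r *
    sY .p * sY .s * sY .q * sY .r * sY .s * sY .r = 1 := by
  apply Subtype.ext
  exact extra_1

theorem hrelsS : ∀ r ∈ HCPA.R, FreeGroup.lift sY r = 1 := by
  intro r hr
  rcases hr with ⟨x, -, y, -, rfl⟩ | hr
  · rw [map_pow, map_mul, FreeGroup.lift_apply_of, FreeGroup.lift_apply_of, rel_cox]
  · have hr' : r ∈ HCP.extra := hr
    simp only [HCP.extra, List.mem_cons, List.not_mem_nil, or_false] at hr'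
    rcases hr' with rfl | rfl
    · simp only [map_mul, FreeGroup.lift_apply_of]; exact rel_0
    · simp only [map_mul, FreeGroup.lift_apply_of]; exact rel_1

/-- the homomorphism from the presented group to the special linear group -/
def homS : PP →* S5 := PresentedGroup.toGroup hrelsS

theorem homS_of (x : HCP.Gen) : homS (PresentedGroup.of x) = sY x := PresentedGroup.toGroup.of _

/-- the transvection -/
def tS : S5 := ⟨Matrix.transvection 0 1 1, Matrix.det_transvection_of_ne 0 1 (by decide) 1⟩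

theorem comm_mY (x : HCP.Gen) : mY x * Matrix.transvection 0 1 1 = Matrix.transvection 0 1 1 * mY x := by
  cases x <;> decide +kernel

theorem comm_sY (x : HCP.Gen) : sY x * tS = tS * sY x := by
  apply Subtype.ext
  exact comm_mY x

theorem homS_comm (x : PP) : homS x * tS = tS * homS x := by
  have hle : homS.range ≤ Subgroup.centralizer {tS} := by
    have hr : homS.range = Subgroup.closure (Set.range fun b : HCP.Gen => homS (PresentedGroup.of b)) := by
      rw [MonoidHom.range_eq_map, ← PresentedGroup.closure_range_of, MonoidHom.map_closure, ← Set.range_comp]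
      rfl
    rw [hr, Subgroup.closure_le]
    rintro _ ⟨b, rfl⟩
    show homS (PresentedGroup.of b) ∈ Subgroup.centralizer {tS}
    rw [Subgroup.mem_centralizer_iff]
    intro g hg
    rw [Set.mem_singleton_iff] at hg
    rw [hg, homS_of]
    exact (comm_sY b).symm
  have := Subgroup.mem_centralizer_iff.mp (hle ⟨x, rfl⟩) tS (Set.mem_singleton _)
  exact this.symm

/-! ## The action on the vectors -/

/-- the standard basis vectors -/
def e (j : Fin 5) : V5 := Pi.single j 1

theorem smul_apply (g : S5) (v : V5) (i : Fin 5) : (g • v) i = ∑ j, g.1 i j * v j := rfl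

theorem smul_e (g : S5) (j i : Fin 5) : (g • e j) i = g.1 i j := by
  rw [smul_apply]
  simp [e, Pi.single_apply]

theorem fix_of_span (g : S5) (v : V5) (J : Finset (Fin 5)) (hJ : ∀ j ∈ J, g • e j = e j)
    (hv : ∀ j, j ∉ J → v j = 0) : g • v = v := by
  funext i
  rw [smul_apply]
  have h : ∀ j, g.1 i j * v j = (if i = j then v j else 0) := by
    intro j
    by_cases hj : j ∈ J
    · have h1 := congrFun (hJ j hj) i
      rw [smul_e] at h1
      rw [h1]
      simp [e, Pi.single_apply]
    · rw [hv j hj]; simp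
  simp [h]

theorem cent_facts (g : S5) (hg : g ∈ Subgroup.centralizer ({tS} : Set S5)) :
    (∀ i, i ≠ 0 → g.1 i 0 = 0) ∧ (∀ j, j ≠ 1 → g.1 1 j = 0) ∧ g.1 0 0 = g.1 1 1 := by
  have h := Subgroup.mem_centralizer_iff.mp hg tS (Set.mem_singleton _)
  have hm : Matrix.transvection 0 1 1 * g.1 = g.1 * Matrix.transvection 0 1 1 := congrArg Subtype.val h
  unfold Matrix.transvection at hm
  rw [Matrix.add_mul, Matrix.mul_add, Matrix.one_mul, Matrix.mul_one] at hm
  have hs : Matrix.single (0 : Fin 5) (1 : Fin 5) (1 : ZMod 2) * g.1 = g.1 * Matrix.single 0 1 1 :=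
    add_left_cancel hm
  refine ⟨?_, ?_, ?_⟩
  · intro i hi
    have h1 := congrFun (congrFun hs i) 1
    rw [Matrix.single_mul_apply_of_ne _ _ _ _ _ hi, Matrix.mul_single_apply_same, mul_one] at h1
    exact h1.symm
  · intro j hj
    have h1 := congrFun (congrFun hs 0) j
    rw [Matrix.single_mul_apply_same, Matrix.mul_single_apply_of_ne _ _ _ _ _ hj, one_mul] at h1
    exact h1
  · have h1 := congrFun (congrFun hs 0) 1
    rw [Matrix.single_mul_apply_same, Matrix.mul_single_apply_same, one_mul, mul_one] at h1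
    exact h1.symm

/-! ## The upper bound for the centraliser -/

/-- the centraliser of the transvection -/
abbrev CS : Subgroup S5 := Subgroup.centralizer ({tS} : Set S5)

theorem smul_inj (g : S5) (u v : V5) (h : g • u = g • v) : u = v := MulAction.injective g h

theorem e_ne_zero (j : Fin 5) : e j ≠ 0 := by
  intro h
  have := congrFun h j
  simp [e] at this

theorem zmod2_ne (a : ZMod 2) (h : a ≠ 0) : a = 1 := by revert a; decide

theorem fix_e0 (g : S5) (hg : g ∈ CS) : g • e 0 = e 0 := by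
  obtain ⟨h1, -, -⟩ := cent_facts g hg
  have hcol : g • e 0 = (g.1 0 0) • e 0 := by
    funext i
    rw [smul_e]
    by_cases hi : i = 0
    · subst hi; simp [e]
    · rw [h1 i hi]; simp [e, Pi.single_apply, hi]
  have hne : g.1 0 0 ≠ 0 := by
    intro h0
    rw [h0, zero_smul] at hcol
    have h2 : g • e 0 = g • (0 : V5) := by rw [hcol, smul_zero]
    exact e_ne_zero 0 (smul_inj g _ _ h2)
  rw [hcol, zmod2_ne _ hne, one_smul]

theorem row1 (g : S5) (hg : g ∈ CS) (v : V5) : (g • v) 1 = v 1 := by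
  obtain ⟨-, h2, h3⟩ := cent_facts g hg
  have h11 : g.1 1 1 = 1 := by
    have h := congrFun (fix_e0 g hg) 0
    rw [smul_e] at h
    rw [← h3, h]
    simp [e]
  rw [smul_apply, Fin.sum_univ_five, h2 0 (by decide), h2 2 (by decide), h2 3 (by decide), h2 4 (by decide), h11]
  ring

theorem not_span (g : S5) (k : Fin 5) (J : Finset (Fin 5)) (hk : k ∉ J) (hJ : ∀ j ∈ J, g • e j = e j) :
    ¬ (∀ j, j ∉ J → (g • e k) j = 0) := by
  intro hv
  have h1 := fix_of_span g (g • e k) J hJ hv
  have h2 := smul_inj g _ _ h1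
  have h3 := hv k hk
  rw [h2] at h3
  simp [e] at h3

/-- the vectors that can be images of the first base point -/
def S1 : Finset V5 := Finset.univ.filter (fun v => v 1 = 1)
/-- the vectors that can be images of the second base point -/
def S2 : Finset V5 := Finset.univ.filter (fun v => v 1 = 0 ∧ ¬ (v 2 = 0 ∧ v 3 = 0 ∧ v 4 = 0))
/-- the vectors that can be images of the third base point -/
def S3 : Finset V5 := Finset.univ.filter (fun v => v 1 = 0 ∧ ¬ (v 3 = 0 ∧ v 4 = 0))
/-- the vectors that can be images of the fourth base point -/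
def S4 : Finset V5 := Finset.univ.filter (fun v => v 1 = 0 ∧ ¬ (v 4 = 0))

theorem card_S1 : S1.card = 16 := by decide +kernel
theorem card_S2 : S2.card = 14 := by decide +kernel
theorem card_S3 : S3.card = 12 := by decide +kernel
theorem card_S4 : S4.card = 8 := by decide +kernel

theorem mem_S1 (g : S5) (hg : g ∈ CS ⊓ fixAll ([] : List V5)) : g • e 1 ∈ S1 := by
  unfold S1
  rw [Finset.mem_filter]
  refine ⟨Finset.mem_univ _, ?_⟩
  rw [row1 g hg.1]
  simp [e]

theorem fixes (g : S5) (bs : List V5) (hg : g ∈ CS ⊓ fixAll bs) (J : Finset (Fin 5))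
    (hJ : ∀ j ∈ J, j = 0 ∨ e j ∈ bs) : ∀ j ∈ J, g • e j = e j := by
  intro j hj
  rcases hJ j hj with rfl | h
  · exact fix_e0 g hg.1
  · exact hg.2 _ h

theorem mem_S2 (g : S5) (hg : g ∈ CS ⊓ fixAll [e 1]) : g • e 2 ∈ S2 := by
  unfold S2
  rw [Finset.mem_filter]
  refine ⟨Finset.mem_univ _, ?_, ?_⟩
  · rw [row1 g hg.1]; simp [e]
  · rintro ⟨h2, h3, h4⟩
    apply not_span g 2 {0, 1} (by decide) (fixes g _ hg _ (by decide))
    intro j hj
    fin_cases j
    · simp at hj
    · simp at hj
    · exact h2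
    · exact h3
    · exact h4

theorem mem_S3 (g : S5) (hg : g ∈ CS ⊓ fixAll [e 2, e 1]) : g • e 3 ∈ S3 := by
  unfold S3
  rw [Finset.mem_filter]
  refine ⟨Finset.mem_univ _, ?_, ?_⟩
  · rw [row1 g hg.1]; simp [e]
  · rintro ⟨h3, h4⟩
    apply not_span g 3 {0, 1, 2} (by decide) (fixes g _ hg _ (by decide))
    intro j hj
    fin_cases j
    · simp at hj
    · simp at hj
    · simp at hj
    · exact h3
    · exact h4

theorem mem_S4 (g : S5) (hg : g ∈ CS ⊓ fixAll [e 3, e 2, e 1]) : g • e 4 ∈ S4 := by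
  unfold S4
  rw [Finset.mem_filter]
  refine ⟨Finset.mem_univ _, ?_, ?_⟩
  · rw [row1 g hg.1]; simp [e]
  · intro h4
    apply not_span g 4 {0, 1, 2, 3} (by decide) (fixes g _ hg _ (by decide))
    intro j hj
    fin_cases j
    · simp at hj
    · simp at hj
    · simp at hj
    · simp at hj
    · exact h4

theorem card_last : Nat.card ↥(CS ⊓ fixAll [e 4, e 3, e 2, e 1]) ≤ 1 := by
  rw [Finite.card_le_one_iff_subsingleton]
  constructor
  have key : ∀ g : S5, g ∈ CS ⊓ fixAll [e 4, e 3, e 2, e 1] → g = 1 := by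
    intro g hg
    have hf := fixes g _ hg Finset.univ (by decide)
    apply Subtype.ext
    ext i j
    rw [← smul_e, hf j (Finset.mem_univ _)]
    simp [e, Matrix.one_apply, Pi.single_apply, eq_comm]
  intro a b
  apply Subtype.ext
  rw [key a.1 a.2, key b.1 b.2]

theorem card_CS_le : Nat.card ↥CS ≤ 21504 := by
  rw [card_level0A (X := V5) CS]
  have h4 := card_levelA_le CS [e 3, e 2, e 1] (e 4) S4 mem_S4 8 1 (le_of_eq card_S4) card_last
  have h3 := card_levelA_le CS [e 2, e 1] (e 3) S3 mem_S3 12 (8 * 1) (le_of_eq card_S3) h4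
  have h2 := card_levelA_le CS [e 1] (e 2) S2 mem_S2 14 (12 * (8 * 1)) (le_of_eq card_S2) h3
  have h1 := card_levelA_le CS [] (e 1) S1 mem_S1 16 (14 * (12 * (8 * 1))) (le_of_eq card_S1) h2
  exact le_trans h1 (by norm_num)

/-! ## The lower bound for the image -/

/-- the action of a word in the generators on a vector -/
def wordAct (w : List HCP.Gen) (v : V5) : V5 := w.foldr (fun x u => mY x *ᵥ u) v

theorem prod_smul (w : List HCP.Gen) (v : V5) : (w.map sY).prod • v = wordAct w v := by
  induction w with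
  | nil => simp [wordAct]
  | cons x w ih =>
    rw [List.map_cons, List.prod_cons, mul_smul, ih]
    rfl

theorem level_ge (K : Subgroup S5) (hK : ∀ x, sY x ∈ K) (bs : List V5) (b : V5) (tab : List (List HCP.Gen))
    (hfix : ∀ w ∈ tab, ∀ c ∈ bs, wordAct w c = c) (m c : ℕ)
    (hm : m ≤ ((tab.map (fun w => wordAct w b)).toFinset).card)
    (hc : c ≤ Nat.card ↥(K ⊓ fixAll (b :: bs))) :
    m * c ≤ Nat.card ↥(K ⊓ fixAll bs) := by
  apply card_levelA_ge K bs b _ _ m c hm hc
  intro y hy
  rw [List.mem_toFinset, List.mem_map] at hy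
  obtain ⟨w, hw, rfl⟩ := hy
  refine ⟨(w.map sY).prod, ⟨?_, ?_⟩, prod_smul w b⟩
  · apply Subgroup.list_prod_mem
    intro x hx
    obtain ⟨a, -, rfl⟩ := List.mem_map.mp hx
    exact hK a
  · intro c hc
    rw [prod_smul]
    exact hfix w hw c hc

/-- the words for level 1 of the chain -/
def tab1 : List (List HCP.Gen) := [
  [],
  [.q],
  [.q, .p, .q],
  [.q, .p],
  [.p, .q, .p, .s, .q, .p],
  [.r, .q, .p, .s, .q, .p],
  [.p, .q, .s, .q, .p],
  [.p, .s, .q, .p],
  [.p],
  [.p, .q],
  [.p, .q, .p],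
  [.p, .q, .p, .q],
  [.q, .p, .s, .q, .p],
  [.q, .p, .q, .s, .q, .p],
  [.s, .q, .p],
  [.q, .s, .q, .p]]

/-- the words for level 2 of the chain -/
def tab2 : List (List HCP.Gen) := [
  [],
  [.p, .s, .q, .p, .r, .q, .p, .s],
  [.r, .q, .s, .r],
  [.p, .q, .p, .r, .q, .p, .s, .r],
  [.s, .r],
  [.p, .q, .p, .q, .r, .q, .p, .q, .s, .r],
  [.r, .q],
  [.q, .p, .s, .q, .p, .q, .r, .q, .p, .s],
  [.q, .r],
  [.p, .r, .s, .q, .p, .q, .r, .q, .p, .s],
  [.q, .r, .s, .r],
  [.p, .q, .s, .r, .q, .s, .q, .p],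
  [.q, .s],
  [.p, .q, .p, .q, .r, .q, .p, .s]]

/-- the words for level 3 of the chain -/
def tab3 : List (List HCP.Gen) := [
  [],
  [.p, .q, .p, .r, .q, .p, .q, .r, .s, .q],
  [.q, .r, .s, .q],
  [.p, .q, .p, .r, .q, .p],
  [.q, .r, .q, .s, .q, .r, .q, .s],
  [.s, .q, .p, .r, .s, .q, .p, .r, .q, .p],
  [.s, .q, .r, .s],
  [.q, .p, .q, .s, .q, .r, .s, .q, .p, .q],
  [.s, .r, .q, .s],
  [.p, .q, .p, .r, .q, .p, .s, .r, .q, .s],
  [.r, .s, .r, .s, .q, .r],
  [.p, .q, .s, .r, .q, .s, .q, .p, .r, .s]]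

/-- the words for level 4 of the chain -/
def tab4 : List (List HCP.Gen) := [
  [],
  [.p, .s, .q, .r, .s, .q, .p, .q, .s, .r, .q, .s, .r, .q, .p, .q, .r],
  [.q, .r, .s, .r, .s, .q],
  [.p, .q, .r, .q, .p, .q, .s, .q, .p, .q, .r, .q, .p, .q, .s, .q],
  [.r, .s, .r, .s, .q, .r, .s, .r, .q, .s],
  [.p, .q, .r, .s, .q, .r, .s, .r, .q, .p, .q, .r, .s, .q, .p, .r],
  [.r, .s, .q, .r, .q, .s, .r, .s, .q, .r, .s, .r],
  [.p, .q, .p, .r, .q, .p, .q, .s, .q, .p, .q, .s, .r, .s, .q, .p]]

theorem one_le_card (L : Subgroup S5) : 1 ≤ Nat.card ↥L := Nat.card_pos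

theorem lower_bound : 21504 ≤ Nat.card homS.range := by
  have hK : ∀ x, sY x ∈ homS.range := fun x => ⟨PresentedGroup.of x, homS_of x⟩
  have h4 := level_ge homS.range hK [e 3, e 2, e 1] (e 4) tab4 (by decide +kernel) 8 1 (by decide +kernel)
    (one_le_card _)
  have h3 := level_ge homS.range hK [e 2, e 1] (e 3) tab3 (by decide +kernel) 12 (8 * 1) (by decide +kernel) h4
  have h2 := level_ge homS.range hK [e 1] (e 2) tab2 (by decide +kernel) 14 (12 * (8 * 1)) (by decide +kernel) h3
  have h1 := level_ge homS.range hK [] (e 1) tab1 (by decide +kernel) 16 (14 * (12 * (8 * 1)))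
    (by decide +kernel) h2
  rw [← card_level0A] at h1
  exact le_trans (by norm_num) h1

/-! ## The isomorphism -/

/-- the centraliser of the transvection is isomorphic to the presented group `HCP` -/
theorem iso_SL : Nonempty (PP ≃* Subgroup.centralizer ({tS} : Set S5)) :=
  mulEquiv_centralizer_of_card homS tS homS_comm 21504 (le_of_eq card_PP) card_CS_le inferInstance lower_bound

end Cfsg.Agent.Helper28.HeCent.SLside
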